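/-
Claim (N) of S2858 (helper45's note 3165): in a minimal counterexample, `D = Q₁ ⊓ Q₂` is not
normalized by `P₁`.  Definitions and the exact statements of the packages.

Notation of the paper proof: `S = Q₂`, `D = Q₁ ⊓ Q₂`, `L ≤ P₁` of index `2` with `L/D = S₃`,
`σ ∈ P₂` of order `3` mod `S`, `x ∈ T \ S`.  `L₁ = L`, `L₂ = cj σ L`, `L₃ = cj (σ * σ) L`
and `D₁ = D`, `D₂ = cj σ D`, `D₃ = cj (σ * σ) D`.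
-/
import Mathlib
import Cfsg.Prelude.Def_Amalgam
import Cfsg.Prelude.Def_Transfer
import Cfsg.Agent.Lib.Helper71.Sym.BDefs
import Cfsg.Agent.Lib.Helper59.Amal.SubQuot

set_option autoImplicit false

namespace Cfsg.Agent.Lib.Helper59.Amal

open Cfsg.Agent.Lib.Helper71.Sym

universe u

section

variable {G : Type u} [Group G]

/-- Local structure (`LAmal` without its last field): `D ⊴ L`, `D ≤ S ≤ L`, `S` a `2`-group,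
`|S : D| = 2`, `|L : S| = 3`, `S` not normal in `L`, `C_L(D) ≤ D`. -/
structure LS3 (L S D : Subgroup G) : Prop where
  fin : Finite ↥L
  hDS : D ≤ S
  hSL : S ≤ L
  hDn : ∀ h ∈ L, ∀ d ∈ D, h * d * h⁻¹ ∈ D
  hS2 : IsPGroup 2 ↥S
  hSD : Nat.card ↥S = 2 * Nat.card ↥D
  hLS : Nat.card ↥L = 3 * Nat.card ↥S
  hSn : ∃ h ∈ L, ∃ s ∈ S, h * s * h⁻¹ ∉ S
  hCD : ∀ g ∈ L, (∀ d ∈ D, g * d = d * g) → g ∈ D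

/-- The Sylow / quotient / `O₂` objects of an `LS3`. -/
structure LS3Q (L S D : Subgroup G) : Prop where
  syl : ∃ Syl : Sylow 2 ↥L, (Syl : Subgroup ↥L) = S.subgroupOf L
  quot : Nonempty (↥L ⧸ Cfsg.pCore 2 ↥L ≃* Equiv.Perm (Fin 3))
  core : Cfsg.pCoreOf 2 L = D

/-- Elementary facts on an `LS3`. -/
structure LS3F (L S D : Subgroup G) : Prop where
  mul_D : ∀ s ∈ S, ∀ t ∈ S, s ∉ D → t ∉ D → s * t ∈ D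
  exists_SD : ∃ s ∈ S, s ∉ D
  maxS : ∀ K : Subgroup G, S ≤ K → K ≤ L → K = S ∨ K = L
  normS : ∀ h ∈ L, (∀ s ∈ S, h * s * h⁻¹ ∈ S) → h ∈ S
  inter : ∀ h ∈ L, h ∉ S → ∀ s ∈ S, h * s * h⁻¹ ∈ S → s ∈ D
  le_D : ∀ N : Subgroup G, N ≤ S → (∀ h ∈ L, ∀ n ∈ N, h * n * h⁻¹ ∈ N) → N ≤ D
  ord3 : ∃ g ∈ L, g * g * g = 1 ∧ g ∉ S
  normal3 : ∀ C : Subgroup G, C ≤ L → (∀ h ∈ L, ∀ c ∈ C, h * c * h⁻¹ ∈ C) → ¬ C ≤ D →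
    ∀ g ∈ L, g * g * g = 1 → g ∈ C

/-- The configuration of claim (N): three conjugates `L, cj σ L, cj (σ * σ) L` of `L` around `S`,
`x` fixes the first and swaps the other two. -/
structure Tri (L S D : Subgroup G) (σ x : G) : Prop where
  loc : LS3 L S D
  hσS : cj σ S = S
  hxS : cj x S = S
  hxL : cj x L = L
  hxD : cj x D = D
  hσ3 : σ * σ * σ ∈ S
  hxσ : x * σ * x⁻¹ * σ ∈ S
  hne : cj σ D ≠ D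
  hcore : ∀ N : Subgroup G, N ≤ S → (∀ h ∈ L, ∀ n ∈ N, h * n * h⁻¹ ∈ N) →
    (∀ n ∈ N, σ * n * σ⁻¹ ∈ N) → (∀ n ∈ N, x * n * x⁻¹ ∈ N) → N = ⊥

/-- A pair of `LS3`'s around the same `S`, swapped by some `t`. -/
structure Pair (L L' S D D' : Subgroup G) : Prop where
  l1 : LS3 L S D
  l2 : LS3 L' S D'
  hne : D ≠ D'
  swap : ∃ t : G, cj t L = L' ∧ cj t L' = L ∧ cj t S = S ∧ cj t D = D' ∧ cj t D' = D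
  hc1 : ∃ g ∈ L, g * g * g = 1 ∧ ∃ d ∈ D, g * d * g⁻¹ * d⁻¹ ∉ D'
  hc2 : ∃ g ∈ L', g * g * g = 1 ∧ ∃ d ∈ D', g * d * g⁻¹ * d⁻¹ ∉ D

/-- The outcome of the induction for a pair: `K` is the largest subgroup of `S` normalized by
`L` and `L'`; `D/K` and `D'/K` are elementary abelian and self-centralizing mod `K`. -/
structure PairK (L L' S D D' K : Subgroup G) : Prop where
  hKD : K ≤ D
  hKD' : K ≤ D'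
  hK1 : ∀ h ∈ L, ∀ k ∈ K, h * k * h⁻¹ ∈ K
  hK2 : ∀ h ∈ L', ∀ k ∈ K, h * k * h⁻¹ ∈ K
  hKmax : ∀ N : Subgroup G, N ≤ S → (∀ h ∈ L, ∀ n ∈ N, h * n * h⁻¹ ∈ N) →
    (∀ h ∈ L', ∀ n ∈ N, h * n * h⁻¹ ∈ N) → N ≤ K
  el1 : ∀ d ∈ D, ∀ e ∈ D, d * d ∈ K ∧ d * e * d⁻¹ * e⁻¹ ∈ K
  el2 : ∀ d ∈ D', ∀ e ∈ D', d * d ∈ K ∧ d * e * d⁻¹ * e⁻¹ ∈ K
  hC1 : ∀ g ∈ L, (∀ d ∈ D, g * d * g⁻¹ * d⁻¹ ∈ K) → g ∈ D
  hC2 : ∀ g ∈ L', (∀ d ∈ D', g * d * g⁻¹ * d⁻¹ ∈ K) → g ∈ D'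

end

/-! ### The packages -/

/-- (LSa) the subgroup `L` of index `2` in `P₁`. -/
def PkgLSa : Prop := ∀ {G : Type u} [Group G] (P₁ P₂ T Q₁ Q₂ : Subgroup G),
  LAmal P₁ T Q₁ → LAmal P₂ T Q₂ →
  (∀ N : Subgroup G, N ≤ T → (∀ h ∈ P₁, ∀ n ∈ N, h * n * h⁻¹ ∈ N) →
    (∀ h ∈ P₂, ∀ n ∈ N, h * n * h⁻¹ ∈ N) → N = ⊥) →
  (∀ h ∈ P₁, ∀ d ∈ Q₁ ⊓ Q₂, h * d * h⁻¹ ∈ Q₁ ⊓ Q₂) →
  ∃ L : Subgroup G, LS3 L Q₂ (Q₁ ⊓ Q₂) ∧ L ≤ P₁ ∧ (∀ t ∈ T, cj t L = L) ∧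
    (∀ h ∈ P₁, ∃ l ∈ L, ∃ t ∈ T, h = l * t)

/-- (LSb) the elements `σ`, `x`. -/
def PkgLSb : Prop := ∀ {G : Type u} [Group G] (P₁ P₂ T Q₁ Q₂ L : Subgroup G),
  LAmal P₁ T Q₁ → LAmal P₂ T Q₂ →
  (∀ N : Subgroup G, N ≤ T → (∀ h ∈ P₁, ∀ n ∈ N, h * n * h⁻¹ ∈ N) →
    (∀ h ∈ P₂, ∀ n ∈ N, h * n * h⁻¹ ∈ N) → N = ⊥) →
  LS3 L Q₂ (Q₁ ⊓ Q₂) → L ≤ P₁ → (∀ t ∈ T, cj t L = L) →
  (∀ h ∈ P₁, ∃ l ∈ L, ∃ t ∈ T, h = l * t) →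
  ∃ σ x : G, Tri L Q₂ (Q₁ ⊓ Q₂) σ x

/-- (FRa) Sylow, quotient and `O₂` of an `LS3`. -/
def PkgFRa : Prop := ∀ {G : Type u} [Group G] (L S D : Subgroup G), LS3 L S D → LS3Q L S D

/-- (FRb) elementary facts of an `LS3`. -/
def PkgFRb : Prop := ∀ {G : Type u} [Group G] (L S D : Subgroup G), LS3 L S D → LS3F L S D

/-- (HC) `[D, O²(L)]` is contained in no other conjugate of `D`. -/
def PkgHC : Prop := ∀ {G : Type u} [Group G] (L S D : Subgroup G) (σ x : G),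
  Tri L S D σ x → LS3F L S D →
  (∃ g ∈ L, g * g * g = 1 ∧ ∃ d ∈ D, g * d * g⁻¹ * d⁻¹ ∉ cj σ D) ∧
  (∃ g ∈ L, g * g * g = 1 ∧ ∃ d ∈ D, g * d * g⁻¹ * d⁻¹ ∉ cj (σ * σ) D)

/-- (TP) the three pairs of a `Tri`. -/
def PkgTP : Prop := ∀ {G : Type u} [Group G] (L S D : Subgroup G) (σ x : G),
  Tri L S D σ x →
  ((∃ g ∈ L, g * g * g = 1 ∧ ∃ d ∈ D, g * d * g⁻¹ * d⁻¹ ∉ cj σ D) ∧
    (∃ g ∈ L, g * g * g = 1 ∧ ∃ d ∈ D, g * d * g⁻¹ * d⁻¹ ∉ cj (σ * σ) D)) →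
  Pair L (cj σ L) S D (cj σ D) ∧ Pair L (cj (σ * σ) L) S D (cj (σ * σ) D) ∧
    Pair (cj σ L) (cj (σ * σ) L) S (cj σ D) (cj (σ * σ) D)

/-- (HZ) the swap gives the non-central involution of `S/K`. -/
def PkgHZ : Prop := ∀ {G : Type u} [Group G] (L L' S K : Subgroup G) (t : G),
  Finite ↥S → IsPGroup 2 ↥S → S ≤ L → K ≤ S →
  (∀ h ∈ L, ∀ k ∈ K, h * k * h⁻¹ ∈ K) → (∀ h ∈ L', ∀ k ∈ K, h * k * h⁻¹ ∈ K) →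
  (∀ N : Subgroup G, N ≤ S → (∀ h ∈ L, ∀ n ∈ N, h * n * h⁻¹ ∈ N) →
    (∀ h ∈ L', ∀ n ∈ N, h * n * h⁻¹ ∈ N) → N ≤ K) →
  cj t L = L' → cj t L' = L → cj t S = S →
  (∃ h ∈ L, ∃ s ∈ S, h * s * h⁻¹ ∉ S) →
  ∃ z ∈ S, z * z ∈ K ∧ (∀ s ∈ S, z * s * z⁻¹ * s⁻¹ ∈ K) ∧ ∃ g ∈ L, g * z * g⁻¹ * z⁻¹ ∉ K

/-- (CV) `C_L(Ω₁ Z(D)) ≤ D`. -/
def PkgCV : Prop := ∀ {G : Type u} [Group G] (L S D : Subgroup G) (σ x : G),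
  Tri L S D σ x → LS3F L S D →
  ∀ g ∈ L, (∀ v ∈ D, (∀ d ∈ D, d * v = v * d) → v * v = 1 → g * v = v * g) → g ∈ D

/-- (J) helper45's Lemma J for subgroups of `G`. -/
def PkgJ : Prop := ∀ {G : Type u} [Group G] (L S D D' K A : Subgroup G),
  LS3 L S D →
  (∀ g ∈ L, (∀ v ∈ D, (∀ d ∈ D, d * v = v * d) → v * v = 1 → g * v = v * g) → g ∈ D) →
  D' ≤ S → (∀ s ∈ S, ∀ d ∈ D', s * d * s⁻¹ ∈ D') →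
  (∀ N : Subgroup G, N ≤ L → (∀ h ∈ L, ∀ n ∈ N, h * n * h⁻¹ ∈ N) → D ⊓ D' ≤ N → D ≤ N) →
  K ≤ D → K ≤ D' → (∀ h ∈ L, ∀ k ∈ K, h * k * h⁻¹ ∈ K) →
  A ≤ S → Cfsg.IsElementaryAbelian 2 A →
  (∀ B : Subgroup G, B ≤ S → Cfsg.IsElementaryAbelian 2 B → Nat.card B ≤ Nat.card A) →
  ¬ A ≤ D →
  (∀ a ∈ A, a ∈ D → a ∈ K) →
  (∀ v ∈ D, (∀ d ∈ D, d * v = v * d) → v * v = 1 → v ∈ K) →
  ∀ v ∈ D', (∀ d ∈ D', d * v = v * d) → v * v = 1 → v ∈ D ∧ ∀ d ∈ D, d * v = v * d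

/-- (I1) every subgroup of `S` of exponent `2` lies in `D` or in `D'`. -/
def PkgI1 : Prop := ∀ {G : Type u} [Group G] (L L' S D D' K : Subgroup G),
  Pair L L' S D D' → LS3F L S D → LS3F L' S D' → PairK L L' S D D' K →
  ∀ B : Subgroup G, B ≤ S → (∀ b ∈ B, b * b = 1) → B ≤ D ∨ B ≤ D'

/-- (I2) `M ⊓ cj g M` is normalized by `L`, `M = D ⊓ D'`, `g ∈ L \ S`. -/
def PkgI2 : Prop := ∀ {G : Type u} [Group G] (L L' S D D' K : Subgroup G),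
  Pair L L' S D D' → LS3F L S D → LS3F L' S D' → PairK L L' S D D' K →
  ∀ g ∈ L, g ∉ S → ∀ h ∈ L, ∀ m ∈ (D ⊓ D') ⊓ cj g (D ⊓ D'),
    h * m * h⁻¹ ∈ (D ⊓ D') ⊓ cj g (D ⊓ D')

/-- (I3) `D ⊓ D'` is not normalized by `L`. -/
def PkgI3 : Prop := ∀ {G : Type u} [Group G] (L L' S D D' K : Subgroup G),
  Pair L L' S D D' → LS3F L S D → LS3F L' S D' → PairK L L' S D D' K →
  ¬ (∀ h ∈ L, ∀ m ∈ D ⊓ D', h * m * h⁻¹ ∈ D ⊓ D')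

end Cfsg.Agent.Lib.Helper59.Amal
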