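/-
Claim (N) of S2858: the pair lemma.  For a `Pair L L' S D D'` and the induction hypothesis,
the largest subgroup `K` of `S` normalized by `L` and `L'` gives a `PairK`.
-/
import Mathlib
import Cfsg.Agent.Lib.Helper59.Amal.NDefs

set_option autoImplicit false

namespace Cfsg.Agent.Lib.Helper59.Amal

open Cfsg.Agent.Lib.Helper71.Sym

universe u

section

variable {G : Type u} [Group G]

/-- `C_L(D mod K) ≤ D` from the order-3 witness `hc`. -/
theorem hC_of_hc (L S D D' K : Subgroup G) (hl : LS3 L S D) (hF : LS3F L S D)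
    (hK : ∀ h ∈ L, ∀ k ∈ K, h * k * h⁻¹ ∈ K) (hKD' : K ≤ D')
    (hc : ∃ g ∈ L, g * g * g = 1 ∧ ∃ d ∈ D, g * d * g⁻¹ * d⁻¹ ∉ D') :
    ∀ g ∈ L, (∀ d ∈ D, g * d * g⁻¹ * d⁻¹ ∈ K) → g ∈ D := by
  intro g hgL hg
  by_contra hgD
  -- the subgroup `C`
  let C : Subgroup G :=
    { carrier := {a | a ∈ L ∧ ∀ d ∈ D, a * d * a⁻¹ * d⁻¹ ∈ K}
      mul_mem' := by
        rintro a b ⟨haL, ha⟩ ⟨hbL, hb⟩
        refine ⟨L.mul_mem haL hbL, fun d hd => ?_⟩
        have h1 := hK a haL _ (hb d hd)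
        have h2 := ha d hd
        have e : a * b * d * (a * b)⁻¹ * d⁻¹ = (a * (b * d * b⁻¹ * d⁻¹) * a⁻¹) * (a * d * a⁻¹ * d⁻¹) := by
          group
        rw [e]
        exact K.mul_mem h1 h2
      one_mem' := ⟨L.one_mem, fun d hd => by simp⟩
      inv_mem' := by
        rintro a ⟨haL, ha⟩
        refine ⟨L.inv_mem haL, fun d hd => ?_⟩
        have h1 := hK a⁻¹ (L.inv_mem haL) _ (K.inv_mem (ha d hd))
        have e : a⁻¹ * d * a⁻¹⁻¹ * d⁻¹ = a⁻¹ * (a * d * a⁻¹ * d⁻¹)⁻¹ * a⁻¹⁻¹ := by group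
        rw [e]
        exact h1 }
  have hCL : C ≤ L := fun a ha => ha.1
  have hCn : ∀ h ∈ L, ∀ c ∈ C, h * c * h⁻¹ ∈ C := by
    rintro h hh c ⟨hcL, hc'⟩
    refine ⟨L.mul_mem (L.mul_mem hh hcL) (L.inv_mem hh), fun d hd => ?_⟩
    have hd' : h⁻¹ * d * h⁻¹⁻¹ ∈ D := hl.hDn h⁻¹ (L.inv_mem hh) d hd
    have h1 := hK h hh _ (hc' _ hd')
    have e : h * c * h⁻¹ * d * (h * c * h⁻¹)⁻¹ * d⁻¹ =
        h * (c * (h⁻¹ * d * h⁻¹⁻¹) * c⁻¹ * (h⁻¹ * d * h⁻¹⁻¹)⁻¹) * h⁻¹ := by group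
    rw [e]
    exact h1
  have hCD : ¬ C ≤ D := fun hle => hgD (hle ⟨hgL, hg⟩)
  obtain ⟨g', hg'L, hg'3, d, hd, hgd⟩ := hc
  have hg'C : g' ∈ C := hF.normal3 C hCL hCn hCD g' hg'L hg'3
  exact hgd (hKD' (hg'C.2 d hd))

/-- **The pair lemma.** -/
theorem pairK_of_pair (hHZ : PkgHZ.{u}) (n : ℕ) (IH : IHlt.{u} n) (L L' S D D' : Subgroup G)
    (hP : Pair L L' S D D') (hQ : LS3Q L S D) (hQ' : LS3Q L' S D') (hF : LS3F L S D)
    (hF' : LS3F L' S D') (hn : Nat.card ↥S < n) : ∃ K : Subgroup G, PairK L L' S D D' K := by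
  classical
  have hl := hP.l1
  have hl' := hP.l2
  have : Finite ↥L := hl.fin
  have : Finite ↥L' := hl'.fin
  have : Finite ↥S := Finite.of_injective _ (Subgroup.inclusion_injective hl.hSL)
  obtain ⟨K, hKdef⟩ : ∃ K : Subgroup G, K = sSup {N : Subgroup G | N ≤ S ∧
      (∀ h ∈ L, ∀ n ∈ N, h * n * h⁻¹ ∈ N) ∧ (∀ h ∈ L', ∀ n ∈ N, h * n * h⁻¹ ∈ N)} := ⟨_, rfl⟩
  have hKS : K ≤ S := by
    rw [hKdef]
    exact sSup_le (fun N hN => hN.1)
  have hKmax : ∀ N : Subgroup G, N ≤ S → (∀ h ∈ L, ∀ n ∈ N, h * n * h⁻¹ ∈ N) →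
      (∀ h ∈ L', ∀ n ∈ N, h * n * h⁻¹ ∈ N) → N ≤ K := by
    intro N h1 h2 h3
    rw [hKdef]
    exact le_sSup ⟨h1, h2, h3⟩
  have hK1 : ∀ h ∈ L, ∀ k ∈ K, h * k * h⁻¹ ∈ K := by
    intro h hh
    have hle : K ≤ K.comap (MulAut.conj h).toMonoidHom := by
      conv_lhs => rw [hKdef]
      apply sSup_le
      intro N hN n hn
      rw [Subgroup.mem_comap]
      exact hKmax N hN.1 hN.2.1 hN.2.2 (by simpa using hN.2.1 h hh n hn)
    intro k hk
    have := hle hk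
    rw [Subgroup.mem_comap] at this
    simpa using this
  have hK2 : ∀ h ∈ L', ∀ k ∈ K, h * k * h⁻¹ ∈ K := by
    intro h hh
    have hle : K ≤ K.comap (MulAut.conj h).toMonoidHom := by
      conv_lhs => rw [hKdef]
      apply sSup_le
      intro N hN n hn
      rw [Subgroup.mem_comap]
      exact hKmax N hN.1 hN.2.1 hN.2.2 (by simpa using hN.2.2 h hh n hn)
    intro k hk
    have := hle hk
    rw [Subgroup.mem_comap] at this
    simpa using this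
  have hKD : K ≤ D := hF.le_D K hKS hK1
  have hKD' : K ≤ D' := hF'.le_D K hKS hK2
  -- `S = L ⊓ L'`
  have hcardLL' : Nat.card ↥L = Nat.card ↥L' := by rw [hl.hLS, hl'.hLS]
  have hS : S = L ⊓ L' := by
    apply le_antisymm (le_inf hl.hSL hl'.hSL)
    rcases hF.maxS (L ⊓ L') (le_inf hl.hSL hl'.hSL) inf_le_left with h | h
    · exact h.le
    · exfalso
      have hLL' : L ≤ L' := by
        rw [← h]
        exact inf_le_right
      have hEq : L = L' := Subgroup.eq_of_le_of_card_ge hLL' hcardLL'.symm.le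
      apply hP.hne
      rw [← hQ.core, ← hQ'.core, hEq]
  -- the two centralizer conditions
  have hC1 : ∀ g ∈ L, (∀ d ∈ D, g * d * g⁻¹ * d⁻¹ ∈ K) → g ∈ D :=
    hC_of_hc L S D D' K hl hF hK1 hKD' hP.hc1
  have hC2 : ∀ g ∈ L', (∀ d ∈ D', g * d * g⁻¹ * d⁻¹ ∈ K) → g ∈ D' :=
    hC_of_hc L' S D' D K hl' hF' hK2 hKD hP.hc2
  -- the swap
  obtain ⟨t, ht1, ht2, htS, -, -⟩ := hP.swap
  have hZ1 := hHZ L L' S K t inferInstance hl.hS2 hl.hSL hKS hK1 hK2 hKmax ht1 ht2 htS hl.hSn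
  have hZ2 := hHZ L' L S K t inferInstance hl.hS2 hl'.hSL hKS hK2 hK1
    (fun N h1 h2 h3 => hKmax N h1 h3 h2) ht2 ht1 htS hl'.hSn
  have hmain := subQuot n IH L L' S K hS hn
    (by
      rintro P (rfl | rfl)
      · exact hQ.syl
      · exact hQ'.syl)
    (by
      rintro P (rfl | rfl)
      · exact hQ.quot
      · exact hQ'.quot)
    hKS (le_normalizer_of_conj_mem hK1) (le_normalizer_of_conj_mem hK2)
    (by
      intro N hNS hN1 hN2
      exact hKmax N hNS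
        (fun h hh n hn => (Subgroup.mem_normalizer_iff.mp (hN1 hh) n).mp hn)
        (fun h hh n hn => (Subgroup.mem_normalizer_iff.mp (hN2 hh) n).mp hn))
    (by
      rintro P (rfl | rfl)
      · rw [hQ.core]
        exact hC1
      · rw [hQ'.core]
        exact hC2)
    (by
      rintro P (rfl | rfl)
      · exact hZ1
      · exact hZ2)
  have m1 : L ∈ ({L, L'} : Set (Subgroup G)) := Set.mem_insert _ _
  have m2 : L' ∈ ({L, L'} : Set (Subgroup G)) := Set.mem_insert_of_mem _ rfl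
  have hel1 := hmain L m1
  have hel2 := hmain L' m2
  rw [hQ.core] at hel1
  rw [hQ'.core] at hel2
  exact ⟨K, hKD, hKD', hK1, hK2, hKmax, hel1, hel2, hC1, hC2⟩

end

end Cfsg.Agent.Lib.Helper59.Amal
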